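import Mathlib.RingTheory.DedekindDomain.IntegralClosure
import Mathlib.FieldTheory.Minpoly.IsIntegrallyClosed
import Mathlib.RingTheory.Polynomial.IsIntegral
import Mathlib.RingTheory.Valuation.ValuationRing
import Mathlib.RingTheory.Bezout
import Mathlib.Algebra.GCDMonoid.IntegrallyClosed
import Mathlib.RingTheory.Flat.TorsionFree
import Groth.Agent.Flat2E.VertAlg
import Groth.Agent.S0437

/-!
Finiteness of the integral closure of `R[x₁, …, x_d]`, `R` a valuation ring, in a finite separable
extension of its fraction field, from a lattice of integral elements over the Gauss valuation ring.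
-/

set_option autoImplicit false

open MvPolynomial

universe u

namespace K584.ClaimF

variable {R : Type u} [CommRing R] [IsDomain R] [ValuationRing R] {d : ℕ}

/-- A polynomial is primitive if one of its coefficients is a unit. -/
def Prim (s : MvPolynomial (Fin d) R) : Prop := ∃ m, IsUnit (s.coeff m)

theorem prim_iff (s : MvPolynomial (Fin d) R) :
    Prim s ↔ MvPolynomial.map (IsLocalRing.residue R) s ≠ 0 := by
  rw [Ne, MvPolynomial.ext_iff, not_forall]
  refine exists_congr fun m => ?_
  rw [coeff_map, coeff_zero, IsLocalRing.residue_eq_zero_iff, IsLocalRing.mem_maximalIdeal,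
    mem_nonunits_iff, not_not]

theorem Prim.mul {s t : MvPolynomial (Fin d) R} (hs : Prim s) (ht : Prim t) : Prim (s * t) := by
  rw [prim_iff] at hs ht ⊢
  rw [map_mul]
  exact mul_ne_zero hs ht

theorem prim_one : Prim (1 : MvPolynomial (Fin d) R) := by
  rw [prim_iff, map_one]
  exact one_ne_zero

theorem Prim.pow {s : MvPolynomial (Fin d) R} (hs : Prim s) (n : ℕ) : Prim (s ^ n) := by
  rw [prim_iff] at hs ⊢
  rw [map_pow]
  exact pow_ne_zero n hs

theorem Prim.ne_zero {s : MvPolynomial (Fin d) R} (hs : Prim s) : s ≠ 0 := by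
  rintro rfl
  obtain ⟨m, hm⟩ := hs
  rw [coeff_zero] at hm
  exact not_isUnit_zero hm

/-- A finite set of elements of a valuation ring, not all zero, has an element dividing all. -/
theorem exists_dvd_all {ι : Type*} (s : Finset ι) (hs : s.Nonempty) (f : ι → R) :
    ∃ i ∈ s, ∀ j ∈ s, f i ∣ f j := by
  induction hs using Finset.Nonempty.cons_induction with
  | singleton a => exact ⟨a, by simp, by simp⟩
  | cons a s ha hs ih =>
    obtain ⟨i, hi, h⟩ := ih
    rcases ValuationRing.dvd_total (f i) (f a) with h1 | h1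
    · refine ⟨i, Finset.mem_cons_of_mem hi, fun j hj => ?_⟩
      rcases Finset.mem_cons.mp hj with rfl | hj
      · exact h1
      · exact h j hj
    · refine ⟨a, Finset.mem_cons_self a s, fun j hj => ?_⟩
      rcases Finset.mem_cons.mp hj with rfl | hj
      · exact dvd_rfl
      · exact h1.trans (h j hj)

/-- Every nonzero polynomial is the product of a constant and a primitive polynomial. -/
theorem exists_prim {f : MvPolynomial (Fin d) R} (hf : f ≠ 0) :
    ∃ r : R, r ≠ 0 ∧ ∃ g, Prim g ∧ f = C r * g := by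
  obtain ⟨m, hm, h⟩ := exists_dvd_all f.support (Finset.nonempty_iff_ne_empty.mpr
    (fun h => hf (MvPolynomial.support_eq_empty.mp h))) f.coeff
  have h2 : ∀ j, f.coeff m ∣ f.coeff j := by
    intro j
    by_cases hj : j ∈ f.support
    · exact h j hj
    · rw [MvPolynomial.notMem_support_iff.mp hj]
      exact dvd_zero _
  have hne : f.coeff m ≠ 0 := MvPolynomial.mem_support_iff.mp hm
  obtain ⟨g, hg⟩ := (MvPolynomial.C_dvd_iff_dvd_coeff (f.coeff m) f).mpr h2
  refine ⟨f.coeff m, hne, g, ⟨m, ?_⟩, hg⟩
  have h3 := congrArg (MvPolynomial.coeff m) hg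
  rw [coeff_C_mul] at h3
  have h4 : g.coeff m = 1 := by
    apply mul_left_cancel₀ hne
    rw [← h3, mul_one]
  rw [h4]
  exact isUnit_one

/-- Constants dividing a multiple by a primitive polynomial. -/
theorem C_dvd_of_prim {r : R} {s c : MvPolynomial (Fin d) R} (hs : Prim s) (h : C r ∣ s * c) :
    C r ∣ c := by
  by_cases hc : c = 0
  · rw [hc]; exact dvd_zero _
  obtain ⟨c0, hc0, c', hc', rfl⟩ := exists_prim hc
  obtain ⟨m, hm⟩ := hs.mul hc'
  have h1 := (MvPolynomial.C_dvd_iff_dvd_coeff r _).mp h m
  rw [show s * (C c0 * c') = C c0 * (s * c') by ring, coeff_C_mul] at h1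
  have h2 : r ∣ c0 := (IsUnit.dvd_mul_right hm).mp h1
  exact (map_dvd (C (σ := Fin d)) h2).mul_right c'

section

variable {E : Type u} [Field E] [Algebra (MvPolynomial (Fin d) R) E]
  [IsFractionRing (MvPolynomial (Fin d) R) E]

/-- `K[x] ∩ V = R[x]`. -/
theorem exists_eq_of_mul_mem {r : R} (hr : r ≠ 0) {s : MvPolynomial (Fin d) R} (hs : Prim s)
    {y : E} (h1 : ∃ a, algebraMap (MvPolynomial (Fin d) R) E (C r) * y =
      algebraMap (MvPolynomial (Fin d) R) E a)
    (h2 : ∃ a, algebraMap (MvPolynomial (Fin d) R) E s * y =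
      algebraMap (MvPolynomial (Fin d) R) E a) :
    ∃ a, y = algebraMap (MvPolynomial (Fin d) R) E a := by
  obtain ⟨a, ha⟩ := h1
  obtain ⟨b, hb⟩ := h2
  have hinj := IsFractionRing.injective (MvPolynomial (Fin d) R) E
  have hCr : (C r : MvPolynomial (Fin d) R) ≠ 0 := by
    rw [Ne, C_eq_zero]; exact hr
  have h3 : s * a = C r * b := by
    apply hinj
    rw [map_mul, map_mul, ← ha, ← hb]
    ring
  obtain ⟨e, he⟩ := C_dvd_of_prim hs ⟨b, h3⟩
  refine ⟨e, ?_⟩
  have h4 : algebraMap (MvPolynomial (Fin d) R) E (C r) ≠ 0 := by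
    rw [Ne, IsFractionRing.to_map_eq_zero_iff]; exact hCr
  apply mul_left_cancel₀ h4
  rw [ha, he, map_mul]

variable {L : Type u} [Field L] [Algebra E L] [FiniteDimensional E L]
    [Algebra (MvPolynomial (Fin d) R) L] [IsScalarTower (MvPolynomial (Fin d) R) E L]

theorem isIntegrallyClosed : IsIntegrallyClosed (MvPolynomial (Fin d) R) :=
  haveI : IsIntegrallyClosed R := by
    classical
    letI := IsBezout.toGCDDomain R
    infer_instance
  Groth.Agent.Flat2E.VertAlg.isIntegrallyClosed_mvPolynomial R d

omit [IsFractionRing (MvPolynomial (Fin d) R) E] in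
/-- The coefficients of the minimal polynomial of `y` are integral up to powers of `c` when `c y` is
integral. -/
theorem coeff_minpoly_mem [IsFractionRing (MvPolynomial (Fin d) R) E]
    {c : MvPolynomial (Fin d) R} (hc : c ≠ 0) {y : L}
    (hy : IsIntegral (MvPolynomial (Fin d) R) (algebraMap (MvPolynomial (Fin d) R) L c * y)) (i : ℕ) :
    ∃ a, algebraMap (MvPolynomial (Fin d) R) E (c ^ ((minpoly E y).natDegree - i)) *
      (minpoly E y).coeff i = algebraMap (MvPolynomial (Fin d) R) E a := by
  haveI := isIntegrallyClosed (R := R) (d := d)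
  have hc' : algebraMap (MvPolynomial (Fin d) R) E c ≠ 0 := by
    rw [Ne, IsFractionRing.to_map_eq_zero_iff]; exact hc
  have hyE : IsIntegral E y := IsIntegral.of_finite E y
  have h1 : minpoly E (algebraMap (MvPolynomial (Fin d) R) E c • y) =
      (minpoly E y).scaleRoots (algebraMap (MvPolynomial (Fin d) R) E c) :=
    IsIntegrallyClosed.minpoly_smul hc' hyE
  have h2 : algebraMap (MvPolynomial (Fin d) R) E c • y =
      algebraMap (MvPolynomial (Fin d) R) L c * y := by
    rw [Algebra.smul_def, ← IsScalarTower.algebraMap_apply]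
  rw [h2, minpoly.isIntegrallyClosed_eq_field_fractions' E hy] at h1
  have h3 := congrArg (fun p => Polynomial.coeff p i) h1
  simp only [Polynomial.coeff_map, Polynomial.coeff_scaleRoots] at h3
  exact ⟨_, by rw [h3, map_pow, mul_comm]⟩

/-- An element which becomes integral after multiplication by a constant and by a primitive
polynomial is integral. -/
theorem isIntegral_of_mul {r : R} (hr : r ≠ 0) {s : MvPolynomial (Fin d) R} (hs : Prim s) {y : L}
    (E : Type u) [Field E] [Algebra (MvPolynomial (Fin d) R) E]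
    [IsFractionRing (MvPolynomial (Fin d) R) E] [Algebra E L] [FiniteDimensional E L]
    [IsScalarTower (MvPolynomial (Fin d) R) E L]
    (h1 : IsIntegral (MvPolynomial (Fin d) R) (algebraMap (MvPolynomial (Fin d) R) L (C r) * y))
    (h2 : IsIntegral (MvPolynomial (Fin d) R) (algebraMap (MvPolynomial (Fin d) R) L s * y)) :
    IsIntegral (MvPolynomial (Fin d) R) y := by
  have hCr : (C r : MvPolynomial (Fin d) R) ≠ 0 := by
    rw [Ne, C_eq_zero]; exact hr
  have h3 : ∀ i, ∃ a, (minpoly E y).coeff i = algebraMap (MvPolynomial (Fin d) R) E a := by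
    intro i
    refine exists_eq_of_mul_mem (r := r ^ ((minpoly E y).natDegree - i)) (pow_ne_zero _ hr)
      (hs.pow ((minpoly E y).natDegree - i)) ?_ (coeff_minpoly_mem hs.ne_zero h2 i)
    rw [map_pow]
    exact coeff_minpoly_mem hCr h1 i
  have hyE : IsIntegral E y := IsIntegral.of_finite E y
  obtain ⟨p, hp, hpm⟩ : ∃ p : Polynomial (MvPolynomial (Fin d) R),
      p.map (algebraMap (MvPolynomial (Fin d) R) E) = minpoly E y ∧ p.Monic := by
    have hl : minpoly E y ∈ Polynomial.lifts (algebraMap (MvPolynomial (Fin d) R) E) := by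
      rw [Polynomial.lifts_iff_coeff_lifts]
      intro i
      obtain ⟨a, ha⟩ := h3 i
      exact ⟨a, ha.symm⟩
    obtain ⟨q, hq, -, hqm⟩ := Polynomial.lifts_and_degree_eq_and_monic hl (minpoly.monic hyE)
    exact ⟨q, hq, hqm⟩
  refine ⟨p, hpm, ?_⟩
  have h4 := minpoly.aeval E y
  rw [← hp, Polynomial.aeval_map_algebraMap] at h4
  exact h4

end

/-- The integral closure of `R[x]` in a finite separable extension is finite, given a lattice. -/
theorem finite_integralClosure_of_lattice {R : Type u} [CommRing R] [IsDomain R] [ValuationRing R]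
    {d : ℕ} {E : Type u} [Field E] [Algebra (MvPolynomial (Fin d) R) E] [IsFractionRing (MvPolynomial (Fin d) R) E]
    {L : Type u} [Field L] [Algebra E L] [FiniteDimensional E L] [Algebra.IsSeparable E L]
    [Algebra (MvPolynomial (Fin d) R) L] [IsScalarTower (MvPolynomial (Fin d) R) E L]
    (hlat : ∃ b : Module.Basis (Fin (Module.finrank E L)) E L,
      (∀ i, IsIntegral (MvPolynomial (Fin d) R) (b i)) ∧
      ∀ x : L, (∃ s : MvPolynomial (Fin d) R, (∃ m, IsUnit (s.coeff m)) ∧
        IsIntegral (MvPolynomial (Fin d) R) (algebraMap _ L s * x)) →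
        ∀ i, ∃ s a : MvPolynomial (Fin d) R, (∃ m, IsUnit (s.coeff m)) ∧
          algebraMap _ E s * b.repr x i = algebraMap _ E a) :
    Module.Finite (MvPolynomial (Fin d) R) (integralClosure (MvPolynomial (Fin d) R) L) := by
  classical
  haveI := isIntegrallyClosed (R := R) (d := d)
  obtain ⟨b, hb, hlat⟩ := hlat
  set P := MvPolynomial (Fin d) R with hP
  have hPE : Function.Injective (algebraMap P E) := IsFractionRing.injective P E
  have hPL : Function.Injective (algebraMap P L) := by
    rw [IsScalarTower.algebraMap_eq P E L]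
    exact (algebraMap E L).injective.comp hPE
  letI : Algebra R L := ((algebraMap P L).comp (algebraMap R P)).toAlgebra
  haveI : IsScalarTower R P L := IsScalarTower.of_algebraMap_eq' rfl
  -- a common denominator for the coordinates of integral elements
  obtain ⟨D, hD0, hD⟩ : ∃ D : P, D ≠ 0 ∧ ∀ y : L, IsIntegral P y → ∀ i, ∃ a,
      algebraMap P E D * b.repr y i = algebraMap P E a := by
    let b' := (Algebra.traceForm E L).dualBasis (traceForm_nondegenerate E L) b
    obtain ⟨D, hD⟩ := IsLocalization.exist_integer_multiples (nonZeroDivisors P)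
      (Finset.univ : Finset (Fin (Module.finrank E L) × Fin (Module.finrank E L)))
      (fun ij => b.repr (b' ij.1) ij.2)
    refine ⟨D, nonZeroDivisors.ne_zero D.2, fun y hy i => ?_⟩
    have h1 : y ∈ Submodule.span P (Set.range b') :=
      integralClosure_le_span_dualBasis (A := P) b hb (show y ∈ integralClosure P L from hy)
    rw [Submodule.mem_span_range_iff_exists_fun] at h1
    obtain ⟨c, rfl⟩ := h1
    rw [map_sum, Finset.sum_apply', Finset.mul_sum]
    choose a ha using fun j => hD (j, i) (Finset.mem_univ _)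
    refine ⟨∑ j, c j * a j, ?_⟩
    rw [map_sum]
    refine Finset.sum_congr rfl fun j _ => ?_
    have h2 : b.repr (c j • b' j) i = algebraMap P E (c j) * b.repr (b' j) i := by
      rw [← algebraMap_smul E (c j) (b' j), map_smul, Finsupp.smul_apply, smul_eq_mul]
    rw [h2, map_mul, ha j, Algebra.smul_def]
    simp only [Submonoid.smul_def]
    ring
  -- make it primitive
  obtain ⟨s, hs, hsD⟩ : ∃ s : P, Prim s ∧ ∀ y : L, IsIntegral P y → ∀ i, ∃ a,
      algebraMap P E s * b.repr y i = algebraMap P E a := by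
    obtain ⟨r, hr, s, hs, rfl⟩ := exists_prim hD0
    refine ⟨s, hs, fun y hy i => ?_⟩
    obtain ⟨a, ha⟩ := hD y hy i
    obtain ⟨s', a', hs', h'⟩ := hlat y ⟨1, prim_one, by rwa [map_one, one_mul]⟩ i
    refine exists_eq_of_mul_mem (y := algebraMap P E s * b.repr y i) hr (s := s') hs'
      ⟨a, ?_⟩ ⟨s * a', ?_⟩
    · rw [← ha, map_mul, mul_assoc]
    · rw [map_mul, ← h']
      ring
  -- the finite module `N = s⁻¹ ⊕ P b_i`
  have hsL : algebraMap P L s ≠ 0 := by
    rw [Ne, map_eq_zero_iff _ hPL]; exact hs.ne_zero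
  let N : Submodule P L := Submodule.span P (Set.range fun i => (algebraMap P L s)⁻¹ * b i)
  have hNfg : Module.Finite P N := Module.Finite.span_of_finite P (Set.finite_range _)
  let Cc : Submodule P L := Subalgebra.toSubmodule (integralClosure P L)
  have hCN : Cc ≤ N := by
    intro y hy
    have hy' : IsIntegral P y := hy
    choose a ha using hsD y hy'
    rw [Submodule.mem_span_range_iff_exists_fun]
    refine ⟨a, ?_⟩
    have h1 : y = ∑ i, b.repr y i • b i := (b.sum_repr y).symm
    conv_rhs => rw [h1]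
    refine Finset.sum_congr rfl fun i _ => ?_
    rw [Algebra.smul_def, Algebra.smul_def, ← mul_assoc, IsScalarTower.algebraMap_apply P E L (a i),
      ← ha i, map_mul, ← IsScalarTower.algebraMap_apply P E L]
    field_simp
  have hNs : ∀ y ∈ N, IsIntegral P (algebraMap P L s * y) := by
    intro y hy
    rw [Submodule.mem_span_range_iff_exists_fun] at hy
    obtain ⟨c, rfl⟩ := hy
    rw [Finset.mul_sum]
    refine IsIntegral.sum _ fun i _ => ?_
    have h1 : algebraMap P L s * (c i • ((algebraMap P L s)⁻¹ * b i)) = c i • b i := by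
      rw [Algebra.smul_def, Algebra.smul_def]
      field_simp
    rw [h1]
    exact (hb i).smul (c i)
  have hsat : ∀ r : R, r ≠ 0 → ∀ y ∈ N, (C r : P) • y ∈ Cc → y ∈ Cc := by
    intro r hr y hy hry
    rw [Algebra.smul_def] at hry
    exact isIntegral_of_mul hr hs E hry (hNs y hy)
  -- the quotient
  let Cn : Submodule P N := Cc.submoduleOf N
  haveI hflat : Module.Flat R (N ⧸ Cn) := by
    rw [Module.Flat.flat_iff_torsion_eq_bot_of_isBezout, eq_bot_iff]
    intro z hz
    obtain ⟨z, rfl⟩ := Submodule.Quotient.mk_surjective _ z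
    rw [Submodule.mem_torsion_iff] at hz
    obtain ⟨r, hr⟩ := hz
    have hr0 : (r : R) ≠ 0 := nonZeroDivisors.ne_zero r.2
    rw [Submodule.mem_bot, Submodule.Quotient.mk_eq_zero]
    refine hsat r hr0 z z.2 ?_
    have h1 : Submodule.Quotient.mk (p := Cn) ((C (r : R) : P) • z) = 0 := by
      rw [Submodule.Quotient.mk_smul]
      have h2 : (C (r : R) : P) • (Submodule.Quotient.mk (p := Cn) z) =
          (r : R) • (Submodule.Quotient.mk (p := Cn) z) := by
        rw [← MvPolynomial.algebraMap_eq, algebraMap_smul]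
      rw [h2]
      exact hr
    rw [Submodule.Quotient.mk_eq_zero] at h1
    exact h1
  haveI hfp : Module.FinitePresentation P (N ⧸ Cn) := Groth.Agent.S0437.result (A := R)
  have hfg : (LinearMap.ker Cn.mkQ).FG :=
    Module.FinitePresentation.fg_ker Cn.mkQ (Submodule.mkQ_surjective _)
  rw [Submodule.ker_mkQ] at hfg
  have hfg2 : (Cn.map N.subtype).FG := hfg.map _
  have hmap : Cn.map N.subtype = Cc := by
    change Submodule.map N.subtype (Submodule.comap N.subtype Cc) = Cc
    rw [Submodule.map_comap_subtype]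
    exact inf_eq_right.mpr hCN
  rw [hmap] at hfg2
  exact Module.Finite.iff_fg.mpr hfg2

end K584.ClaimF
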